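import Cfsg.Agent.S2759
import Cfsg.Agent.Lib.SFour.Basic
import Cfsg.Agent.Lib.Involutions.Basic

/-!
Criteria for a finite group to involve, or not to involve, the symmetric groups of degree 3 and 4.
-/

set_option autoImplicit false
set_option linter.unusedSectionVars false

namespace CfsgLib.GoldschmidtGroup

open Cfsg CfsgLib.LocalEven.Involved

variable {G : Type*} [Group G] [Finite G]

/-- The order of a section divides the order of the group. -/
theorem card_dvd_card_of_involves {D : Type*} [Group D] (h : Involves D G) : Nat.card D ∣ Nat.card G := by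
  obtain ⟨K, f, hf⟩ := exists_hom_of_involves h
  exact (Subgroup.card_dvd_of_surjective f hf).trans K.card_subgroup_dvd_card

theorem card_perm_three : Nat.card (Equiv.Perm (Fin 3)) = 6 := by
  rw [Nat.card_eq_fintype_card, Fintype.card_perm, Fintype.card_fin]; rfl

theorem card_perm_four : Nat.card (Equiv.Perm (Fin 4)) = 24 := by
  rw [Nat.card_eq_fintype_card, Fintype.card_perm, Fintype.card_fin]; rfl

/-- `S₄` has the section `S₃`. -/
theorem not_involves_four_of_three (h : ¬ Involves (Equiv.Perm (Fin 3)) G) :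
    ¬ Involves (Equiv.Perm (Fin 4)) G := fun h4 => by
  obtain ⟨K, f, hf⟩ := exists_hom_of_involves h4
  exact h (involves_of_hom K (CfsgLib.LocalEven.SFour.toThree.comp f)
    (CfsgLib.LocalEven.SFour.toThree_surjective.comp hf))

/-- An involution inverting an element of order three gives a section `S₃`. -/
theorem involves_three_of_inverted {a x : G} (ha : a * a = 1) (hx : x ^ 3 = 1) (hx1 : x ≠ 1)
    (h : a * x * a⁻¹ = x⁻¹) : Involves (Equiv.Perm (Fin 3)) G := by
  by_contra hfree
  have hai : a⁻¹ = a := inv_eq_of_mul_eq_one_right ha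
  rw [hai] at h
  have hb : a * x * (a * x) = 1 := by rw [← mul_assoc, h, inv_mul_cancel]
  have hab : a * (a * x) = x := by rw [← mul_assoc, ha, one_mul]
  have h1 : a = a * x :=
    CfsgLib.SFour.S3Free.eq_of_cube hfree ha hb (by rw [hab, hx])
  exact hx1 (left_eq_mul.1 h1)

/-- A group with abelian Sylow 2-subgroups has no section `S₄`. -/
theorem not_involves_four_of_comm_sylow
    (h : ∀ P : Sylow 2 G, ∀ a ∈ (P : Subgroup G), ∀ b ∈ (P : Subgroup G), a * b = b * a) :
    ¬ Involves (Equiv.Perm (Fin 4)) G := fun h4 => by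
  have : Fact (Nat.Prime 2) := ⟨Nat.prime_two⟩
  obtain ⟨T, hT, h3⟩ := (Cfsg.Agent.S2759.result).1 h4
  obtain ⟨Q, hQ⟩ := hT.exists_le_sylow
  set N := Subgroup.normalizer (T : Set G)
  set C := Subgroup.centralizer (T : Set G)
  have hQC : (Q : Subgroup G) ≤ C := fun a ha =>
    Subgroup.mem_centralizer_iff.2 fun b hb => h Q b (hQ hb) a ha
  have hidx : C.relIndex N ∣ (Q : Subgroup G).index := by
    have hCN : C ≤ N := Subgroup.centralizer_le_normalizer (T : Set G)
    exact (Dvd.intro _ (Subgroup.relIndex_mul_index hCN)).trans (Subgroup.index_dvd_of_le hQC)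
  have h6 : Nat.card (Equiv.Perm (Fin 3)) ∣ Nat.card (↥N ⧸ C.subgroupOf N) := by
    obtain ⟨K, f, hf⟩ := exists_hom_of_involves h3
    exact (Subgroup.card_dvd_of_surjective f hf).trans K.card_subgroup_dvd_card
  rw [card_perm_three, ← Subgroup.index_eq_card] at h6
  exact Q.not_dvd_index ((show 2 ∣ 6 by norm_num).trans (h6.trans hidx))

/-- A group with a normal subgroup that is a Sylow 2-subgroup has no section `S₃`. -/
theorem not_involves_three_of_normal {H : Type*} [Group H] [Finite H] (S : Subgroup H) [S.Normal]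
    (hS : IsPGroup 2 S) (hidx : ¬ 2 ∣ S.index) : ¬ Involves (Equiv.Perm (Fin 3)) H := fun h => by
  obtain ⟨K, f, hf⟩ := exists_hom_of_involves h
  have : Fact (Nat.Prime 2) := ⟨Nat.prime_two⟩
  set R := (S.subgroupOf K).map f
  have hRp : IsPGroup 2 R :=
    ((hS.to_le (inf_le_left : S ⊓ K ≤ S)).of_equiv
      ((MulEquiv.subgroupCongr (Subgroup.inf_subgroupOf_right S K)).symm.trans
        (Subgroup.subgroupOfEquivOfLe inf_le_right)).symm).map f
  have hRn : R.Normal := Subgroup.Normal.map inferInstance f hf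
  have hRi : ¬ 2 ∣ R.index := fun h2 => hidx
    (h2.trans ((Subgroup.index_map_dvd _ hf).trans (Subgroup.relIndex_dvd_index_of_normal S K)))
  have hmem : ∀ σ : Equiv.Perm (Fin 3), σ * σ = 1 → σ ∈ R := fun σ hσ => by
    have h1 : orderOf (σ : Equiv.Perm (Fin 3) ⧸ R) ∣ R.index := by
      rw [Subgroup.index_eq_card]; exact orderOf_dvd_natCard _
    have h2 : orderOf (σ : Equiv.Perm (Fin 3) ⧸ R) ∣ 2 := by
      refine orderOf_dvd_of_pow_eq_one ?_
      rw [← QuotientGroup.mk_pow, pow_two, hσ, QuotientGroup.mk_one]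
    rcases (Nat.dvd_prime Nat.prime_two).1 h2 with e | e
    · exact (QuotientGroup.eq_one_iff σ).1 (orderOf_eq_one_iff.1 e)
    · exact absurd (e ▸ h1) hRi
  have hc : finRotate 3 ∈ R := by
    have e : finRotate 3 = Equiv.swap (0 : Fin 3) 1 * Equiv.swap (1 : Fin 3) 2 := by decide
    rw [e]
    exact R.mul_mem (hmem _ (by decide)) (hmem _ (by decide))
  obtain ⟨k, hk⟩ := hRp ⟨_, hc⟩
  have h3 : orderOf (finRotate 3) ∣ 2 ^ k := orderOf_dvd_of_pow_eq_one (congrArg Subtype.val hk)
  rw [orderOf_eq_prime (p := 3) (by decide) (by decide)] at h3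
  have := Nat.prime_three.dvd_of_dvd_pow h3
  norm_num at this

/-- A group in which distinct Sylow 2-subgroups meet trivially has no section `S₄`. -/
theorem not_involves_four_of_ti
    (h : ∀ S T : Sylow 2 G, (S : Subgroup G) ⊓ (T : Subgroup G) ≠ ⊥ → S = T) :
    ¬ Involves (Equiv.Perm (Fin 4)) G := fun h4 => by
  have : Fact (Nat.Prime 2) := ⟨Nat.prime_two⟩
  obtain ⟨T, hT, h3⟩ := (Cfsg.Agent.S2759.result).1 h4
  set N := Subgroup.normalizer (T : Set G)
  set C := Subgroup.centralizer (T : Set G)
  by_cases hT1 : T = ⊥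
  · have hC : C.subgroupOf N = ⊤ := by
      rw [eq_top_iff]
      intro x _
      rw [Subgroup.mem_subgroupOf, Subgroup.mem_centralizer_iff]
      intro b hb
      rw [hT1, SetLike.mem_coe, Subgroup.mem_bot] at hb
      rw [hb, one_mul, mul_one]
    have h6 := card_dvd_card_of_involves h3
    rw [← Subgroup.index_eq_card, hC, Subgroup.index_top, card_perm_three] at h6
    norm_num at h6
  obtain ⟨S, hS⟩ := hT.exists_le_sylow
  have hN : N ≤ Subgroup.normalizer ((S : Subgroup G) : Set G) := fun g hg => by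
    refine Sylow.smul_eq_iff_mem_normalizer.1 (h _ _ fun hbot => hT1 ?_)
    rw [eq_bot_iff, ← hbot]
    refine le_inf ?_ hS
    intro x hx
    rw [Sylow.coe_subgroup_smul, Subgroup.mem_pointwise_smul_iff_inv_smul_mem]
    have := hS ((Subgroup.mem_normalizer_iff''.1 hg x).1 hx)
    simpa [MulAut.smul_def] using this
  set M := Subgroup.normalizer ((S : Subgroup G) : Set G)
  have hSM : ((S : Subgroup G).subgroupOf M).Normal :=
    Subgroup.normal_subgroupOf_iff_le_normalizer Subgroup.le_normalizer |>.2 le_rfl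
  have hM : ¬ Involves (Equiv.Perm (Fin 3)) M := not_involves_three_of_normal _
    (S.isPGroup'.of_equiv (Subgroup.subgroupOfEquivOfLe Subgroup.le_normalizer).symm)
    fun h2 => S.not_dvd_index (h2.trans (Subgroup.relIndex_dvd_index_of_le Subgroup.le_normalizer))
  obtain ⟨K, f, hf⟩ := exists_hom_of_involves
    (involves_of_surjective (QuotientGroup.mk' (C.subgroupOf N)) (QuotientGroup.mk'_surjective _) h3)
  refine hM (involves_of_hom (K.map (Subgroup.inclusion hN))
    (f.comp (K.equivMapOfInjective _ (Subgroup.inclusion_injective hN)).symm.toMonoidHom)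
    (hf.comp (MulEquiv.surjective _)))

/-- Sections are invariant under isomorphism of the ambient group. -/
theorem involves_congr {H : Type*} [Group H] {D : Type*} [Group D] (e : G ≃* H) :
    Involves D G ↔ Involves D H :=
  ⟨involves_of_surjective e.symm.toMonoidHom e.symm.surjective,
    involves_of_surjective e.toMonoidHom e.surjective⟩

/-- A section `S₃` yields an inverted element of order three. -/
theorem exists_inverted_three (h : Involves (Equiv.Perm (Fin 3)) G) :
    ∃ a z : G, orderOf z = 3 ∧ a * z * a⁻¹ = z⁻¹ := by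
  have : Fact (Nat.Prime 3) := ⟨Nat.prime_three⟩
  obtain ⟨e⟩ := CfsgLib.LocalEven.SFour.dihedralThree_mulEquiv
  obtain ⟨x1, P1, ⟨k1, hk1⟩, hP1, hn1, hc1⟩ :=
    exists_acting_of_involves (p := 3) (by norm_num) (involves_of_equiv e.symm h)
  obtain ⟨a, c, -, hc, hc1', hac⟩ := exists_inverted P1 hP1 k1 x1 hk1 hn1 hc1
  obtain ⟨l, hl⟩ := (IsPGroup.iff_orderOf.1 hP1) ⟨c, hc⟩
  rw [Subgroup.orderOf_mk] at hl
  cases l with
  | zero => exact absurd (orderOf_eq_one_iff.1 (by rw [hl, pow_zero])) hc1'
  | succ l =>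
    refine ⟨a, c ^ 3 ^ l, ?_, CfsgLib.Involutions.inverts_pow hac _⟩
    rw [orderOf_pow' c (pow_ne_zero _ (by norm_num)), hl, pow_succ, Nat.gcd_mul_right_left,
      Nat.mul_div_cancel_left _ (pow_pos (by norm_num) _)]

end CfsgLib.GoldschmidtGroup
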