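import Cfsg.Agent.Lib.GoldschmidtGroup.PSLTwo
import Cfsg.Agent.Lib.ReeType.Main
import Cfsg.Agent.Lib.KnownSimple51.SmallRankTI
import Cfsg.Agent.Lib.ClassicalGroups.SL2
import Cfsg.Agent.Lib.SuzukiGroup.Group
import Cfsg.Agent.Lib.Sporadic.J1Involution

/-!
The sections `S₃` and `S₄` in the families of Goldschmidt groups.
-/

set_option autoImplicit false
set_option linter.unusedSectionVars false

namespace CfsgLib.GoldschmidtGroup

open Matrix Cfsg CfsgLib.LocalEven.Involved

/-- The order of a Suzuki group is prime to three. -/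
theorem suzuki_not_three_dvd {F : Type*} [Field F] [Fintype F] {m : ℕ}
    (hF : Fintype.card F = 2 ^ (2 * m + 1)) : ¬ 3 ∣ Nat.card (Lie.Sz F (2 ^ (m + 1))) := by
  obtain ⟨_, ⟨P⟩⟩ := CfsgLib.SuzukiGroup.exists_params hF
  rw [CfsgLib.SuzukiGroup.card_sz P, hF]
  have hq : 2 ^ (2 * m + 1) % 3 = 2 := by
    rw [pow_succ, pow_mul, Nat.mul_mod, Nat.pow_mod]; norm_num
  set q := 2 ^ (2 * m + 1) with hqdef
  intro h
  rcases (Nat.Prime.dvd_mul Nat.prime_three).1 h with h' | h'
  · rcases (Nat.Prime.dvd_mul Nat.prime_three).1 h' with h'' | h''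
    · have := Nat.Prime.dvd_of_dvd_pow Nat.prime_three h''
      omega
    · omega
  · have : (q ^ 2 + 1) % 3 = 2 := by rw [Nat.add_mod, Nat.pow_mod, hq]
    omega

theorem suzuki_three_free {F : Type*} [Field F] [Fintype F] {m : ℕ}
    (hF : Fintype.card F = 2 ^ (2 * m + 1)) :
    ¬ Involves (Equiv.Perm (Fin 3)) (Lie.Sz F (2 ^ (m + 1))) := fun h => by
  have h6 := card_dvd_card_of_involves h
  rw [card_perm_three] at h6
  exact suzuki_not_three_dvd hF ((show 3 ∣ 6 by norm_num).trans h6)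

/-- `PSL₂(2^n)` has no section `S₄`. -/
theorem psl_even_four_free {F : Type*} [Field F] [Fintype F] [CharP F 2] :
    ¬ Involves (Equiv.Perm (Fin 4)) (Matrix.ProjectiveSpecialLinearGroup (Fin 2) F) := fun h =>
  have : Fact (Nat.Prime 2) := ⟨Nat.prime_two⟩
  not_involves_four_of_ti (CfsgLib.KnownSimple51.SmallRankTI.sl_two_ti 2)
    (involves_of_surjective (QuotientGroup.mk' _) (QuotientGroup.mk'_surjective _) h)

/-- `PSU₃(2^n)` has no section `S₄`. -/
theorem psu_even_four_free {F : Type*} [Field F] [Fintype F] [CharP F 2] {n : ℕ}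
    (hF : Fintype.card F = (2 ^ n) ^ 2) : ¬ Involves (Equiv.Perm (Fin 4)) (PSU 3 F (2 ^ n)) := fun h =>
  have : Fact (Nat.Prime 2) := ⟨Nat.prime_two⟩
  not_involves_four_of_ti (CfsgLib.KnownSimple51.SmallRankTI.su_three_ti 2 rfl hF)
    (involves_of_surjective (QuotientGroup.mk' _) (QuotientGroup.mk'_surjective _) h)

/-- `PSL₂(q)`, `q ≡ 3, 5 (mod 8)`, has no section `S₄`. -/
theorem psl_odd_four_free {F : Type*} [Field F] [Fintype F]
    (hq : Fintype.card F % 8 = 3 ∨ Fintype.card F % 8 = 5) :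
    ¬ Involves (Equiv.Perm (Fin 4)) (Matrix.ProjectiveSpecialLinearGroup (Fin 2) F) := by
  classical
  refine not_involves_four_of_comm_sylow fun P a ha b hb => ?_
  have hkl := CfsgLib.ClassicalGroups.SL2.psl_sylow_two_klein rfl hq P
  have := IsKleinFour.isMulCommutative (G := (P : Subgroup (Matrix.ProjectiveSpecialLinearGroup (Fin 2) F)))
  exact congrArg Subtype.val (mul_comm' (⟨a, ha⟩ : (P : Subgroup _)) ⟨b, hb⟩)

/-- A finite group of Ree type has no section `S₄`. -/
theorem ree_four_free {G : Type*} [Group G] [Finite G] (hG : IsReeType G) :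
    ¬ Involves (Equiv.Perm (Fin 4)) G := by
  classical
  obtain ⟨-, -, t, K, n, -, ht, hodd, hdp, F, iF, iFT, hF, ⟨ek⟩⟩ := hG
  have : Fact (Nat.Prime 2) := ⟨Nat.prime_two⟩
  obtain ⟨E⟩ := CfsgLib.ReeType.exists_centData ht hdp ek
  set C := Subgroup.centralizer ({t} : Set G)
  have hq8 : Fintype.card F % 8 = 3 := by rw [hF]; exact CfsgLib.ReeType.three_pow_mod n
  refine not_involves_four_of_comm_sylow fun P a ha b hb => ?_
  -- a Sylow subgroup of the centralizer is a Sylow subgroup of the group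
  obtain ⟨R⟩ : Nonempty (Sylow 2 C) := inferInstance
  obtain ⟨Q, hQ⟩ := (R.isPGroup'.map C.subtype).exists_le_sylow
  have hQC : (Q : Subgroup G) = (R : Subgroup C).map C.subtype := by
    refine le_antisymm ?_ hQ
    have hi : ¬ 2 ∣ ((R : Subgroup C).map C.subtype).index := by
      rw [Subgroup.index_map_subtype]
      exact Nat.Prime.not_dvd_mul Nat.prime_two R.not_dvd_index
        (fun h => (Nat.not_even_iff_odd.2 hodd) (even_iff_two_dvd.2 h))
    obtain ⟨k, hk⟩ := IsPGroup.iff_card.1 Q.isPGroup'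
    have h1 : ((R : Subgroup C).map C.subtype).relIndex (Q : Subgroup G) ∣ 2 ^ k := by
      rw [← hk]; exact Subgroup.index_dvd_card _
    obtain ⟨i, -, hi'⟩ := (Nat.dvd_prime_pow Nat.prime_two).1 h1
    have h2 : ((R : Subgroup C).map C.subtype).relIndex (Q : Subgroup G) ∣
        ((R : Subgroup C).map C.subtype).index := Dvd.intro _ (Subgroup.relIndex_mul_index hQ)
    cases i with
    | zero => exact Subgroup.relIndex_eq_one.1 (by rw [hi', pow_zero])
    | succ i => exact absurd ((by rw [hi', pow_succ]; exact dvd_mul_left 2 _ : 2 ∣ _).trans h2) hi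
  obtain ⟨g, hg⟩ := MulAction.exists_smul_eq G Q P
  have hrep : ∀ u ∈ (P : Subgroup G), ∃ r : C, r ∈ (R : Subgroup C) ∧ g * r * g⁻¹ = u := fun u hu => by
    rw [← hg, Sylow.coe_subgroup_smul, hQC] at hu
    obtain ⟨v, ⟨r, hr, rfl⟩, rfl⟩ := hu
    exact ⟨r, hr, rfl⟩
  obtain ⟨r, hr, rfl⟩ := hrep a ha
  obtain ⟨s, hs, rfl⟩ := hrep b hb
  suffices hrs : r * s = s * r by
    have e : (r : G) * s = s * r := congrArg Subtype.val hrs
    calc g * (r : G) * g⁻¹ * (g * s * g⁻¹) = g * ((r : G) * s) * g⁻¹ := by group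
      _ = g * ((s : G) * r) * g⁻¹ := by rw [e]
      _ = g * (s : G) * g⁻¹ * (g * r * g⁻¹) := by group
  refine E.e.injective ?_
  rw [map_mul, map_mul]
  refine Prod.ext (mul_comm _ _) ?_
  let κ : C →* Matrix.ProjectiveSpecialLinearGroup (Fin 2) F :=
    (MonoidHom.snd _ _).comp E.e.toMonoidHom
  obtain ⟨T, hT⟩ := (R.isPGroup'.map κ).exists_le_sylow
  have hkl := CfsgLib.ClassicalGroups.SL2.psl_sylow_two_klein rfl (Or.inl hq8) T
  have := IsKleinFour.isMulCommutative (G := (T : Subgroup (Matrix.ProjectiveSpecialLinearGroup (Fin 2) F)))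
  exact congrArg Subtype.val
    (mul_comm' (⟨κ r, hT ⟨r, hr, rfl⟩⟩ : (T : Subgroup _)) ⟨κ s, hT ⟨s, hs, rfl⟩⟩)

/-- The smallest Janko group has no section `S₄`. -/
theorem janko_four_free : ¬ Involves (Equiv.Perm (Fin 4)) Spor.J1 := by
  classical
  have : Fact (Nat.Prime 2) := ⟨Nat.prime_two⟩
  have : Finite Spor.J1 := inferInstance
  obtain ⟨t, ht, ⟨e⟩⟩ := CfsgLib.Sporadic.J1.exists_centralizer_equiv
  set C := Subgroup.centralizer ({t} : Set ↥Spor.J1)
  refine not_involves_four_of_comm_sylow fun P a ha b hb => ?_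
  obtain ⟨R⟩ : Nonempty (Sylow 2 C) := inferInstance
  have h120 : Nat.card C = 120 := by
    rw [Nat.card_congr e.toEquiv, Nat.card_prod, nat_card_alternatingGroup, Nat.card_fin,
      Nat.card_eq_fintype_card (α := Multiplicative (ZMod 2))]
    rfl
  have hR : Nat.card (R : Subgroup C) = 8 := by
    rw [R.card_eq_multiplicity, h120, show (120 : ℕ) = 2 ^ 3 * 15 by norm_num,
      Nat.factorization_mul (by norm_num) (by norm_num), Finsupp.add_apply, Nat.factorization_pow,
      Finsupp.smul_apply, Nat.prime_two.factorization_self,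
      Nat.factorization_eq_zero_of_not_dvd (n := 15) (p := 2) (by norm_num)]
    rfl
  let Q : Sylow 2 Spor.J1 := Sylow.ofCard ((R : Subgroup C).map C.subtype) (by
    rw [Subgroup.card_map_of_injective C.subtype_injective, hR, CfsgLib.Sporadic.J1.card_J1,
      show (175560 : ℕ) = 2 ^ 3 * 21945 by norm_num,
      Nat.factorization_mul (by norm_num) (by norm_num), Finsupp.add_apply, Nat.factorization_pow,
      Finsupp.smul_apply, Nat.prime_two.factorization_self,
      Nat.factorization_eq_zero_of_not_dvd (n := 21945) (p := 2) (by norm_num)]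
    rfl)
  obtain ⟨g, hg⟩ := MulAction.exists_smul_eq Spor.J1 Q P
  have hrep : ∀ u ∈ (P : Subgroup Spor.J1), ∃ r : C, r ∈ (R : Subgroup C) ∧ g * r * g⁻¹ = u := fun u hu => by
    rw [← hg, Sylow.coe_subgroup_smul] at hu
    obtain ⟨v, ⟨r, hr, rfl⟩, rfl⟩ := hu
    exact ⟨r, hr, rfl⟩
  obtain ⟨r, hr, rfl⟩ := hrep a ha
  obtain ⟨s, hs, rfl⟩ := hrep b hb
  suffices hrs : r * s = s * r by
    have e : (r : Spor.J1) * s = s * r := congrArg Subtype.val hrs
    calc g * (r : Spor.J1) * g⁻¹ * (g * s * g⁻¹) = g * ((r : Spor.J1) * s) * g⁻¹ := by group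
      _ = g * ((s : Spor.J1) * r) * g⁻¹ := by rw [e]
      _ = g * (s : Spor.J1) * g⁻¹ * (g * r * g⁻¹) := by group
  refine e.injective ?_
  rw [map_mul, map_mul]
  refine Prod.ext (mul_comm _ _) ?_
  let κ : C →* alternatingGroup (Fin 5) := (MonoidHom.snd _ _).comp e.toMonoidHom
  set V := (R : Subgroup C).map κ
  have hV : IsPGroup 2 V := R.isPGroup'.map κ
  obtain ⟨k, hk⟩ := IsPGroup.iff_card.1 hV
  have h60 : Nat.card V ∣ 60 := by
    have h := V.card_subgroup_dvd_card
    rwa [nat_card_alternatingGroup, Nat.card_fin] at h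
  have hk2 : k ≤ 2 := by
    by_contra hk2
    rw [hk] at h60
    have : 2 ^ 3 ∣ 60 := (Nat.pow_dvd_pow 2 (by omega)).trans h60
    norm_num at this
  have hcomm : ∀ u ∈ V, ∀ v ∈ V, u * v = v * u := by
    intro u hu v hv
    suffices hc : ∀ x y : V, x * y = y * x from congrArg Subtype.val (hc ⟨u, hu⟩ ⟨v, hv⟩)
    interval_cases k
    · intro x y
      have : Subsingleton V := (Nat.card_eq_one_iff_unique.1 (by rw [hk, pow_zero])).1
      exact Subsingleton.elim _ _
    · intro x y
      have : IsCyclic V := isCyclic_of_prime_card (p := 2) (by rw [hk, pow_one])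
      let _ := IsCyclic.commGroup (α := V)
      exact mul_comm x y
    · intro x y
      exact (IsPGroup.commutative_of_card_eq_prime_sq (p := 2) hk) x y
  exact hcomm _ ⟨r, hr, rfl⟩ _ ⟨s, hs, rfl⟩

/-- The smallest Janko group has a section `S₃`. -/
theorem janko_involves_three : Involves (Equiv.Perm (Fin 3)) Spor.J1 := by
  classical
  obtain ⟨t, ht, ⟨e⟩⟩ := CfsgLib.Sporadic.J1.exists_centralizer_equiv
  let f : alternatingGroup (Fin 5) →* ↥Spor.J1 :=
    (Subgroup.centralizer ({t} : Set ↥Spor.J1)).subtype.comp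
      (e.symm.toMonoidHom.comp (MonoidHom.inr _ _))
  have hf : Function.Injective f :=
    Subtype.val_injective.comp (e.symm.injective.comp fun a b h => congrArg Prod.snd h)
  let a : alternatingGroup (Fin 5) :=
    ⟨Equiv.swap (0 : Fin 5) 1 * Equiv.swap (3 : Fin 5) 4, Equiv.Perm.mem_alternatingGroup.2 (by decide)⟩
  let x : alternatingGroup (Fin 5) :=
    ⟨Equiv.swap (0 : Fin 5) 1 * Equiv.swap (1 : Fin 5) 2, Equiv.Perm.mem_alternatingGroup.2 (by decide)⟩
  have h1 : a * a = 1 := Subtype.ext (by decide)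
  have h2 : x ^ 3 = 1 := Subtype.ext (by decide)
  have h3 : x ≠ 1 := fun h => absurd (congrArg Subtype.val h) (by decide)
  have h4 : a * x * a⁻¹ = x⁻¹ := Subtype.ext (by decide)
  exact involves_three_of_inverted (a := f a) (x := f x) (by rw [← map_mul, h1, map_one])
    (by rw [← map_pow, h2, map_one]) (fun h => h3 (hf (h.trans (map_one f).symm)))
    (by rw [← map_inv, ← map_mul, ← map_mul, h4, map_inv])

/-- `PSU₃(2^n)` has a section `S₃`, given by permutation matrices. -/
theorem psu_involves_three {F : Type*} [Field F] [Fintype F] [CharP F 2] (q : ℕ) :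
    Involves (Equiv.Perm (Fin 3)) (PSU 3 F q) := by
  classical
  have hdet : ∀ σ : Equiv.Perm (Fin 3), (σ.permMatrix F).det = 1 := fun σ => by
    rw [Matrix.det_permutation]
    rcases Int.units_eq_one_or (Equiv.Perm.sign σ) with h | h <;> simp [h, CharTwo.neg_eq]
  have hmem : ∀ σ : Equiv.Perm (Fin 3),
      (⟨σ.permMatrix F, hdet σ⟩ : Matrix.SpecialLinearGroup (Fin 3) F) ∈ SU 3 F q := fun σ u v => by
    show hermForm 3 F q ((σ.permMatrix F) *ᵥ u) ((σ.permMatrix F) *ᵥ v) = hermForm 3 F q u v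
    rw [Matrix.permMatrix_mulVec, Matrix.permMatrix_mulVec]
    exact Equiv.sum_comp σ (fun i => u i * v i ^ q)
  let P : Equiv.Perm (Fin 3) → ↥(SU 3 F q) := fun σ => ⟨⟨σ.permMatrix F, hdet σ⟩, hmem σ⟩
  have hP : ∀ σ τ, P σ * P τ = P (τ * σ) := fun σ τ => Subtype.ext (Subtype.ext
    (Matrix.permMatrix_mul τ σ).symm)
  have hP1 : P 1 = 1 := Subtype.ext (Subtype.ext (Matrix.permMatrix_one))
  let π : ↥(SU 3 F q) →* PSU 3 F q := QuotientGroup.mk' _
  set c : Equiv.Perm (Fin 3) := finRotate 3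
  set s : Equiv.Perm (Fin 3) := Equiv.swap 0 1
  have hs : P s * P s = 1 := by rw [hP, show s * s = 1 by decide, hP1]
  have hc : P c * P c * P c = 1 := by rw [hP, hP, show c * (c * c) = 1 by decide, hP1]
  refine involves_three_of_inverted (a := π (P s)) (x := π (P c)) (by rw [← map_mul, hs, map_one])
    (by rw [← map_pow, pow_succ, pow_two, hc, map_one]) ?_ ?_
  · intro h
    have h' := Subgroup.mem_center_iff.1 ((QuotientGroup.eq_one_iff _).1 h) (P s)
    rw [hP, hP] at h'
    have hne : (s * c) 0 ≠ (c * s) 0 := by decide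
    have := congrArg (fun u : ↥(SU 3 F q) => ((u : Matrix.SpecialLinearGroup (Fin 3) F) : Matrix (Fin 3) (Fin 3) F) 0 ((c * s) 0)) h'
    simp only [P, Equiv.Perm.permMatrix, PEquiv.toMatrix_apply, Equiv.toPEquiv_apply, Option.mem_def,
      Option.some.injEq, if_true, hne, if_false] at this
    exact one_ne_zero this
  · rw [← map_inv, ← map_inv, ← map_mul, ← map_mul]
    refine congrArg π ?_
    rw [inv_eq_of_mul_eq_one_right hs]
    refine eq_inv_of_mul_eq_one_left ?_
    rw [hP, hP, hP, show c * (s * (c * s)) = 1 by decide, hP1]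

end CfsgLib.GoldschmidtGroup
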