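import Cfsg.Agent.Lib.GoldschmidtGroup.General
import Mathlib.FieldTheory.Finite.Basic
import Mathlib.LinearAlgebra.Matrix.ProjectiveSpecialLinearGroup

/-!
Inverted elements of order three in `PSL₂` of a finite field.
-/

set_option autoImplicit false
set_option linter.unusedSectionVars false

namespace CfsgLib.GoldschmidtGroup

open Matrix Cfsg
open scoped MatrixGroups

variable {F : Type*} [Field F] [Fintype F]

local notation "S2" => Matrix.SpecialLinearGroup (Fin 2) F

local notation "PS2" => Matrix.ProjectiveSpecialLinearGroup (Fin 2) F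

/-- The values of the norm form `a² - a b + b²` include `-1`, outside characteristic three. -/
theorem exists_norm_neg_one (h3 : (3 : F) ≠ 0) : ∃ a b : F, a * a - a * b + b * b = -1 := by
  by_cases h2 : (2 : F) = 0
  · exact ⟨1, 0, by linear_combination h2⟩
  · obtain ⟨u, b, h⟩ := FiniteField.exists_root_sum_quadratic
      (f := Polynomial.X ^ 2 + Polynomial.C (4 : F)) (g := Polynomial.C (3 : F) * Polynomial.X ^ 2)
      (Polynomial.degree_X_pow_add_C (by norm_num) _) (Polynomial.degree_C_mul_X_pow 2 h3)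
      (FiniteField.odd_card_of_char_ne_two fun h => h2 (by
        have := CharP.cast_eq_zero F (ringChar F)
        rw [h] at this
        exact_mod_cast this))
    simp only [Polynomial.eval_add, Polynomial.eval_mul, Polynomial.eval_pow, Polynomial.eval_X,
      Polynomial.eval_C] at h
    refine ⟨(u + b) / 2, b, ?_⟩
    field_simp
    linear_combination h

/-- Outside characteristic three `PSL₂` has a section `S₃`. -/
theorem psl_involves_three (h3 : (3 : F) ≠ 0) : Involves (Equiv.Perm (Fin 3)) PS2 := by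
  obtain ⟨a, b, hab⟩ := exists_norm_neg_one h3
  let x : S2 := ⟨!![0, 1; -1, -1], by simp [Matrix.det_fin_two_of]⟩
  let g : S2 := ⟨!![-b, a - b; a, b], by
    rw [Matrix.det_fin_two_of]; linear_combination -hab⟩
  have hx3 : x * x * x = 1 := by
    apply Matrix.SpecialLinearGroup.ext
    intro i j
    rw [Matrix.SpecialLinearGroup.coe_mul, Matrix.SpecialLinearGroup.coe_mul]
    fin_cases i <;> fin_cases j <;> simp [x, Matrix.mul_apply, Fin.sum_univ_two]
  have hgg : g * g = -1 := by
    apply Matrix.SpecialLinearGroup.ext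
    intro i j
    rw [Matrix.SpecialLinearGroup.coe_mul]
    fin_cases i <;> fin_cases j <;>
      simp [g, Matrix.mul_apply, Fin.sum_univ_two] <;>
      first
        | linear_combination hab
        | ring
  have hgx : x * g * x = g := by
    apply Matrix.SpecialLinearGroup.ext
    intro i j
    rw [Matrix.SpecialLinearGroup.coe_mul, Matrix.SpecialLinearGroup.coe_mul]
    fin_cases i <;> fin_cases j <;>
      simp [g, x, Matrix.mul_apply, Fin.sum_univ_two] <;> ring
  let π : S2 →* PS2 := QuotientGroup.mk' _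
  refine involves_three_of_inverted (a := π g) (x := π x) ?_ ?_ ?_ ?_
  · rw [← map_mul, hgg]
    refine (QuotientGroup.eq_one_iff _).2 (Matrix.SpecialLinearGroup.mem_center_iff.2 ⟨-1, by simp, ?_⟩)
    ext i j
    fin_cases i <;> fin_cases j <;> simp
  · rw [← map_pow, pow_succ, pow_two, hx3, map_one]
  · intro e
    obtain ⟨r, -, hr⟩ := Matrix.SpecialLinearGroup.mem_center_iff.1 ((QuotientGroup.eq_one_iff _).1 e)
    have := congrFun (congrFun hr 0) 1
    simp [x] at this
  · rw [← map_inv, ← map_inv, ← map_mul, ← map_mul]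
    refine congrArg π ?_
    have : g * x * g⁻¹ = x⁻¹ := by
      calc g * x * g⁻¹ = x⁻¹ * (x * g * x) * g⁻¹ := by group
        _ = x⁻¹ := by rw [hgx, mul_inv_cancel_right]
    exact this

/-- In characteristic three an element inverting a transvection forces `-1` to be a square. -/
theorem isSquare_neg_one_of_anticommute [CharP F 3] {A N : Matrix (Fin 2) (Fin 2) F}
    (hA : A.det = 1) (hN : N ≠ 0) (hN2 : N * N = 0) (h : A * N + N * A = 0) :
    IsSquare (-1 : F) := by
  rw [Matrix.det_fin_two] at hA
  have n00 := congrFun (congrFun hN2 0) 0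
  have n01 := congrFun (congrFun hN2 0) 1
  have n10 := congrFun (congrFun hN2 1) 0
  have n11 := congrFun (congrFun hN2 1) 1
  have e00 := congrFun (congrFun h 0) 0
  have e01 := congrFun (congrFun h 0) 1
  have e10 := congrFun (congrFun h 1) 0
  have e11 := congrFun (congrFun h 1) 1
  simp only [Matrix.add_apply, Matrix.mul_apply, Fin.sum_univ_two, Matrix.zero_apply] at *
  set a := A 0 0
  set b := A 0 1
  set c := A 1 0
  set d := A 1 1
  set p := N 0 0
  set r := N 0 1
  set s := N 1 0
  set t := N 1 1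
  have htp : p + t = 0 := by
    have h1 : (p + t) * r = 0 := by linear_combination n01
    have h2 : (p + t) * s = 0 := by linear_combination n10
    by_contra hne
    have hr := (mul_eq_zero.1 h1).resolve_left hne
    have hs := (mul_eq_zero.1 h2).resolve_left hne
    have hp : p = 0 := mul_self_eq_zero.1 (by linear_combination n00 - s * hr)
    have ht : t = 0 := mul_self_eq_zero.1 (by linear_combination n11 - s * hr)
    exact hne (by rw [hp, ht, add_zero])
  have hne3 : r ≠ 0 ∨ s ≠ 0 := by
    by_contra hcon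
    push Not at hcon
    have hp : p = 0 := mul_self_eq_zero.1 (by linear_combination n00 - s * hcon.1)
    refine hN (Matrix.ext fun i j => ?_)
    fin_cases i <;> fin_cases j
    · exact hp
    · exact hcon.1
    · exact hcon.2
    · show t = 0
      linear_combination htp - hp
  have had : a + d = 0 := by
    have h1 : (a + d) * r = 0 := by linear_combination e01 - b * htp
    have h2 : (a + d) * s = 0 := by linear_combination e10 - c * htp
    rcases hne3 with h' | h'
    · exact (mul_eq_zero.1 h1).resolve_right h'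
    · exact (mul_eq_zero.1 h2).resolve_right h'
  by_cases hr : r = 0
  · have hs : s ≠ 0 := hne3.resolve_left (not_not.2 hr)
    have hp : p = 0 := mul_self_eq_zero.1 (by linear_combination n00 - s * hr)
    have hb : b = 0 := (mul_eq_zero.1 (show b * s = 0 by
      linear_combination e00 - c * hr - 2 * a * hp)).resolve_right hs
    exact ⟨a, by linear_combination hA - a * had + c * hb⟩
  · refine ⟨(a * r - b * p) / r, ?_⟩
    field_simp
    linear_combination (r ^ 2) * hA - (a * r ^ 2) * had + (b * r) * e00 - (b * b) * n00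

/-- `PSL₂(q)` with `q` a power of three, congruent to `3` mod `4`, has no section `S₃`. -/
theorem psl_not_involves_three [CharP F 3] (h4 : Fintype.card F % 4 = 3) :
    ¬ Involves (Equiv.Perm (Fin 3)) PS2 := fun h => by
  obtain ⟨α, ζ, hζ, hαζ⟩ := exists_inverted_three h
  have hζ3 : ζ ^ 3 = 1 := by rw [← hζ, pow_orderOf_eq_one]
  have hζ1 : ζ ≠ 1 := fun e => by rw [e, orderOf_one] at hζ; norm_num at hζ
  let π : S2 →* PS2 := QuotientGroup.mk' _
  have hker : ∀ u : S2, π u = 1 → u = 1 ∨ u = -1 := fun u hu => by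
    obtain ⟨r, hr, hr'⟩ := Matrix.SpecialLinearGroup.mem_center_iff.1 ((QuotientGroup.eq_one_iff _).1 hu)
    rw [Fintype.card_fin, sq_eq_one_iff] at hr
    rcases hr with rfl | rfl
    · left; apply Matrix.SpecialLinearGroup.ext; intro i j; rw [← hr']; simp
    · right; apply Matrix.SpecialLinearGroup.ext; intro i j; rw [← hr']; fin_cases i <;> fin_cases j <;> simp
  have hneg : π (-1) = 1 := by
    refine (QuotientGroup.eq_one_iff _).2 (Matrix.SpecialLinearGroup.mem_center_iff.2 ⟨-1, by simp, ?_⟩)
    ext i j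
    fin_cases i <;> fin_cases j <;> simp
  obtain ⟨Z, hZ3, hZ⟩ : ∃ Z : S2, Z ^ 3 = 1 ∧ π Z = ζ := by
    obtain ⟨Z, hZ⟩ := QuotientGroup.mk'_surjective _ ζ
    rcases hker (Z ^ 3) (by rw [map_pow]; exact (congrArg (· ^ 3) hZ).trans hζ3) with e | e
    · exact ⟨Z, e, hZ⟩
    · refine ⟨-Z, ?_, ?_⟩
      · rw [Odd.neg_pow (by decide), e, neg_neg]
      · rw [show -Z = (-1) * Z by simp, map_mul, hneg, one_mul]; exact hZ
  obtain ⟨A, hA⟩ := QuotientGroup.mk'_surjective _ α
  set N : Matrix (Fin 2) (Fin 2) F := (Z : Matrix (Fin 2) (Fin 2) F) - 1 with hNdef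
  have h3 : (3 : Matrix (Fin 2) (Fin 2) F) = 0 := by
    rw [show (3 : Matrix (Fin 2) (Fin 2) F) = ((3 : ℕ) : Matrix (Fin 2) (Fin 2) F) from rfl,
      ← Matrix.diagonal_natCast, CharP.cast_eq_zero, Matrix.diagonal_zero]
  have hM : (Z : Matrix (Fin 2) (Fin 2) F) ^ 3 = 1 := by
    rw [← Matrix.SpecialLinearGroup.coe_pow, hZ3]; rfl
  have hN3 : N ^ 3 = 0 := by
    have e : N ^ 3 = (Z : Matrix (Fin 2) (Fin 2) F) ^ 3 - 1 -
        3 * ((Z : Matrix (Fin 2) (Fin 2) F) ^ 2 - (Z : Matrix (Fin 2) (Fin 2) F)) := by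
      rw [hNdef]; noncomm_ring
    rw [e, hM, h3, zero_mul, sub_zero, sub_self]
  have hNne : N ≠ 0 := fun e => hζ1 (by
    rw [← hZ, show Z = 1 from Subtype.ext (sub_eq_zero.1 e), map_one])
  have htr : N.trace = 0 :=
    (Matrix.isNilpotent_trace_of_isNilpotent (⟨3, hN3⟩ : IsNilpotent N)).eq_zero
  have hN2 : N * N = 0 := by
    have hCH : N * N = -(N.det • (1 : Matrix (Fin 2) (Fin 2) F)) := by
      rw [Matrix.trace_fin_two] at htr
      ext i j
      fin_cases i <;> fin_cases j <;>
        simp [Matrix.mul_apply, Fin.sum_univ_two, Matrix.det_fin_two]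
      · linear_combination (N 0 0) * htr
      · linear_combination (N 0 1) * htr
      · linear_combination (N 1 0) * htr
      · linear_combination (N 1 1) * htr
    have hdet : N.det = 0 := by
      have := congrArg Matrix.det hN3
      rw [Matrix.det_pow, Matrix.det_zero] at this
      exact pow_eq_zero_iff (by norm_num) |>.1 this
    rw [hCH, hdet, zero_smul, neg_zero]
  have hprod : A * Z * A⁻¹ = Z⁻¹ := by
    rcases hker (A * Z * A⁻¹ * Z) (by
      rw [map_mul, map_mul, map_mul, map_inv, show π A = α from hA, hZ, hαζ, inv_mul_cancel]) with e | e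
    · exact eq_inv_of_mul_eq_one_left e
    · exfalso
      have e' : A * Z * A⁻¹ = -Z⁻¹ := by
        calc A * Z * A⁻¹ = A * Z * A⁻¹ * Z * Z⁻¹ := by rw [mul_inv_cancel_right]
          _ = -Z⁻¹ := by rw [e]; simp
      have ht := congrArg (fun u : S2 => (u : Matrix (Fin 2) (Fin 2) F).trace) e'
      simp only [Matrix.SpecialLinearGroup.coe_mul, Matrix.SpecialLinearGroup.coe_neg,
        Matrix.trace_neg] at ht
      rw [Matrix.trace_mul_comm, ← mul_assoc, ← Matrix.SpecialLinearGroup.coe_mul, inv_mul_cancel,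
        Matrix.SpecialLinearGroup.coe_one, one_mul, Matrix.SpecialLinearGroup.coe_inv,
        show (Matrix.adjugate (Z : Matrix (Fin 2) (Fin 2) F)).trace = (Z : Matrix (Fin 2) (Fin 2) F).trace by
          rw [Matrix.adjugate_fin_two, Matrix.trace_fin_two, Matrix.trace_fin_two]
          simp [add_comm]] at ht
      have htZ : (Z : Matrix (Fin 2) (Fin 2) F).trace = 2 := by
        rw [hNdef, Matrix.trace_sub, Matrix.trace_one, Fintype.card_fin, sub_eq_zero] at htr
        exact_mod_cast htr
      rw [htZ] at ht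
      have h3' : (3 : F) = 0 := by exact_mod_cast CharP.cast_eq_zero F 3
      exact one_ne_zero (show (1 : F) = 0 by linear_combination ht - h3')
  have hmat : (A : Matrix (Fin 2) (Fin 2) F) * N + N * A = 0 := by
    have hinv : ((Z⁻¹ : S2) : Matrix (Fin 2) (Fin 2) F) = 1 - N := by
      have h1 : (1 - N) * (Z : Matrix (Fin 2) (Fin 2) F) = 1 := by
        rw [show (Z : Matrix (Fin 2) (Fin 2) F) = 1 + N by rw [hNdef]; abel]
        calc (1 - N) * (1 + N) = 1 - N * N := by noncomm_ring
          _ = 1 := by rw [hN2, sub_zero]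
      have h2 : (Z : Matrix (Fin 2) (Fin 2) F) * ((Z⁻¹ : S2) : Matrix (Fin 2) (Fin 2) F) = 1 := by
        rw [← Matrix.SpecialLinearGroup.coe_mul, mul_inv_cancel]; rfl
      calc ((Z⁻¹ : S2) : Matrix (Fin 2) (Fin 2) F)
          = (1 - N) * (Z : Matrix (Fin 2) (Fin 2) F) * ((Z⁻¹ : S2) : Matrix (Fin 2) (Fin 2) F) := by
            rw [h1, one_mul]
        _ = 1 - N := by rw [mul_assoc, h2, mul_one]
    have h5 : A * Z = Z⁻¹ * A := mul_inv_eq_iff_eq_mul.1 hprod
    have h6 := congrArg (fun u : S2 => (u : Matrix (Fin 2) (Fin 2) F)) h5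
    simp only [Matrix.SpecialLinearGroup.coe_mul, hinv] at h6
    rw [show (Z : Matrix (Fin 2) (Fin 2) F) = 1 + N by rw [hNdef]; abel, mul_add, sub_mul, mul_one, one_mul,
      add_comm, ← sub_eq_zero] at h6
    rw [← h6]; abel
  exact FiniteField.isSquare_neg_one_iff.1
    (isSquare_neg_one_of_anticommute A.2 hNne hN2 hmat) h4

end CfsgLib.GoldschmidtGroup
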